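import Groth.Agent.H02CA.PowerSeries
import Groth.Agent.H8Props.Approx.Ring

/-!
# Completion presentations along unramified flat local homomorphisms with given coefficient fields
-/

set_option autoImplicit false
set_option linter.style.haveILetI false
set_option linter.unusedSectionVars false

universe u

open IsLocalRing TensorProduct MvPowerSeries

namespace Groth.Agent.H7PSBC

local notation "Cpl" R:max => AdicCompletion (maximalIdeal R) R

theorem vars_eq_maximalIdeal (κ : Type u) [Field κ] (n : ℕ) :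
    H02CA.PS.vars (Fin n) κ = maximalIdeal (MvPowerSeries (Fin n) κ) := by
  ext f
  rw [H02CA.PS.mem_vars_iff, mem_maximalIdeal, mem_nonunits_iff, MvPowerSeries.isUnit_iff_constantCoeff,
    isUnit_iff_ne_zero, not_not]

variable {R R' : Type u} [CommRing R] [IsLocalRing R] [IsNoetherianRing R] [CommRing R'] [IsLocalRing R']
  [IsNoetherianRing R'] [Algebra R R'] [IsLocalHom (algebraMap R R')]

/-- The reduction of a completion. -/
noncomputable def red : (Cpl R) →+* ResidueField R :=
  (Ideal.Quotient.factor (Ideal.pow_le_self one_ne_zero : maximalIdeal R ^ 1 ≤ maximalIdeal R)).comp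
    (AdicCompletion.evalₐ (maximalIdeal R) 1).toRingHom

theorem red_algebraMap (r : R) : red (algebraMap R (Cpl R) r) = residue R r := by
  show Ideal.Quotient.factor (Ideal.pow_le_self one_ne_zero : maximalIdeal R ^ 1 ≤ maximalIdeal R)
    (AdicCompletion.evalₐ (maximalIdeal R) 1 (algebraMap R (Cpl R) r)) = _
  rw [H05EGA4.AdicLim.evalₐ_algebraMap, Ideal.Quotient.factor_mk]
  rfl

theorem red_surjective : Function.Surjective (red (R := R)) := fun x => by
  obtain ⟨r, rfl⟩ := residue_surjective x
  exact ⟨algebraMap R _ r, red_algebraMap r⟩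

theorem ker_red : RingHom.ker (red (R := R)) = maximalIdeal (Cpl R) := by
  haveI : (RingHom.ker (red (R := R))).IsMaximal := RingHom.ker_isMaximal_of_surjective _ red_surjective
  exact IsLocalRing.eq_maximalIdeal this

theorem red_eq_zero_iff (x : Cpl R) : red x = 0 ↔ x ∈ maximalIdeal (Cpl R) := by
  rw [← ker_red, RingHom.mem_ker]

theorem comap_pow (N : ℕ) :
    maximalIdeal R ^ N ≤ (maximalIdeal R' ^ N).comap (algebraMap R R') := by
  rw [← Ideal.map_le_iff_le_comap, Ideal.map_pow]
  exact Ideal.pow_right_mono (((local_hom_TFAE (algebraMap R R')).out 0 2).mp ‹_›) N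

theorem cmap_compat {m n : ℕ} (h : m ≤ n) :
    (Ideal.Quotient.factorPow (maximalIdeal R') h).comp
        ((Ideal.quotientMap (maximalIdeal R' ^ n) (algebraMap R R') (comap_pow n)).comp
          (AdicCompletion.evalₐ (maximalIdeal R) n).toRingHom) =
      (Ideal.quotientMap (maximalIdeal R' ^ m) (algebraMap R R') (comap_pow m)).comp
        (AdicCompletion.evalₐ (maximalIdeal R) m).toRingHom := by
  refine RingHom.ext fun x => ?_
  obtain ⟨a, ha⟩ := H8Props.Approx.exists_evalₐ_eq n x
  have h2 := (H8Props.Approx.evalₐ_eq_mk_iff n x a).2 ha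
  have h3 := (H8Props.Approx.evalₐ_eq_mk_iff m x a).2 (Ideal.pow_le_pow_right h ha)
  simp only [RingHom.comp_apply, AlgHom.toRingHom_eq_coe, RingHom.coe_coe, h2, h3, Ideal.quotientMap_mk]
  rfl

/-- The map of completions. -/
noncomputable def cmap : (Cpl R) →+* Cpl R' :=
  AdicCompletion.liftRingHom (maximalIdeal R')
    (fun N => (Ideal.quotientMap (maximalIdeal R' ^ N) (algebraMap R R') (comap_pow N)).comp
      (AdicCompletion.evalₐ (maximalIdeal R) N).toRingHom)
    (fun {m n} h => cmap_compat h)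

theorem evalₐ_cmap (N : ℕ) (x : Cpl R) : AdicCompletion.evalₐ (maximalIdeal R') N (cmap (R' := R') x) =
    Ideal.quotientMap (maximalIdeal R' ^ N) (algebraMap R R') (comap_pow N)
      (AdicCompletion.evalₐ (maximalIdeal R) N x) := by
  exact AdicCompletion.evalₐ_liftRingHom (maximalIdeal R') _ (fun {m n} h => cmap_compat h) N x

theorem cmap_algebraMap (r : R) : cmap (R' := R') (algebraMap R (Cpl R) r) = algebraMap R' (Cpl R') (algebraMap R R' r) := by
  refine AdicCompletion.ext_evalₐ fun N => ?_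
  rw [evalₐ_cmap, H05EGA4.AdicLim.evalₐ_algebraMap, H05EGA4.AdicLim.evalₐ_algebraMap, Ideal.quotientMap_mk]

theorem cmap_mem_pow (N : ℕ) {x : Cpl R} (hx : x ∈ maximalIdeal (Cpl R) ^ N) :
    cmap (R' := R') x ∈ maximalIdeal (Cpl R') ^ N := by
  rw [← H8Props.Approx.evalₐ_eq_zero_iff] at hx ⊢
  rw [evalₐ_cmap, hx, map_zero]

theorem red_cmap (x : Cpl R) : red (cmap (R' := R') x) = ResidueField.map (algebraMap R R') (red x) := by
  obtain ⟨a, ha⟩ := H8Props.Approx.exists_evalₐ_eq 1 x
  have h1 := (red_eq_zero_iff _).2 (pow_one (maximalIdeal (Cpl R)) ▸ ha)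
  have h2 := (red_eq_zero_iff _).2 (pow_one (maximalIdeal (Cpl R')) ▸ cmap_mem_pow (R' := R') 1 ha)
  simp only [map_sub, sub_eq_zero, cmap_algebraMap, red_algebraMap] at h1 h2
  rw [h1, h2, ResidueField.map_residue]

theorem map_maximalIdeal_cmap (hm : (maximalIdeal R).map (algebraMap R R') = maximalIdeal R') :
    (maximalIdeal (Cpl R)).map (cmap (R' := R')) = maximalIdeal (Cpl R') := by
  rw [H8Props.Approx.maximalIdeal_completion, H8Props.Approx.maximalIdeal_completion,
    ← congrArg (Ideal.map (algebraMap R' (Cpl R'))) hm, Ideal.map_map, Ideal.map_map]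
  congr 1

/-- Linearly independent residues stay independent modulo powers. -/
theorem mem_pow_of_sum_mem [Module.Flat R R'] {ι : Type u} (t : Finset ι) (N : ℕ) (hN : 0 < N) (s : ι → R')
    (r : ι → R)
    (hli : ∀ c : ι → R, ∑ j ∈ t, algebraMap R R' (c j) * s j ∈ maximalIdeal R' → ∀ j ∈ t, c j ∈ maximalIdeal R)
    (h : ∑ j ∈ t, algebraMap R R' (r j) * s j ∈ (maximalIdeal R ^ N).map (algebraMap R R')) :
    ∀ j ∈ t, r j ∈ maximalIdeal R ^ N := by
  classical
  let J := maximalIdeal R ^ N
  haveI : Nontrivial (R ⧸ J) := Ideal.Quotient.nontrivial_iff.2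
    (ne_top_of_le_ne_top (maximalIdeal.isMaximal R).ne_top (Ideal.pow_le_self hN.ne'))
  haveI : IsLocalRing (R ⧸ J) := IsLocalRing.of_surjective' _ Ideal.Quotient.mk_surjective
  haveI : IsLocalHom (Ideal.Quotient.mk J) := IsLocalHom.of_surjective _ Ideal.Quotient.mk_surjective
  let M := (R ⧸ J) ⊗[R] R'
  let e := TensorProduct.quotTensorEquivQuotSMul R' J
  let v : t → M := fun j => (1 : R ⧸ J) ⊗ₜ s j
  have hsum : ∀ c : t → R, e (∑ j, (Ideal.Quotient.mk J (c j)) • v j) =
      Submodule.Quotient.mk (∑ j, algebraMap R R' (c j) * s j) := fun c => by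
    rw [← Submodule.mkQ_apply, map_sum, map_sum]
    refine Finset.sum_congr rfl fun j _ => ?_
    show e (Ideal.Quotient.mk J (c j) • ((1 : R ⧸ J) ⊗ₜ s j)) = _
    rw [TensorProduct.smul_tmul', smul_eq_mul, mul_one, TensorProduct.quotTensorEquivQuotSMul_mk_tmul]
    exact congrArg _ (Algebra.smul_def _ _)
  have hv : LinearIndependent (R ⧸ J) v := by
    refine Module.IsLocalRing.linearIndependent_of_flat v ?_
    rw [Fintype.linearIndependent_iff]
    intro c hc j
    have hs : ∀ i, ∃ a : R, residue (R ⧸ J) (Ideal.Quotient.mk J a) = c i := fun i =>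
      (residue_surjective.comp Ideal.Quotient.mk_surjective) (c i)
    choose a ha using hs
    have h1 : TensorProduct.mk (R ⧸ J) (ResidueField (R ⧸ J)) M 1 (∑ i, Ideal.Quotient.mk J (a i) • v i) = 0 := by
      rw [map_sum, ← hc]
      refine Finset.sum_congr rfl fun i _ => ?_
      rw [map_smul, ← algebraMap_smul (ResidueField (R ⧸ J)) (Ideal.Quotient.mk J (a i)), ← ha i]
      rfl
    have h1' := (LinearMap.ker_tensorProductMk (R := R ⧸ J) (Q := M) (I := maximalIdeal (R ⧸ J))).le h1
    have h2 : ∀ w : M, w ∈ maximalIdeal (R ⧸ J) • (⊤ : Submodule (R ⧸ J) M) →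
        ∃ z ∈ maximalIdeal R', e w = Submodule.Quotient.mk z := by
      intro w hw
      refine Submodule.smul_induction_on hw (fun b hb x _ => ?_) fun x y hx hy => ?_
      · obtain ⟨b, rfl⟩ := Ideal.Quotient.mk_surjective b
        obtain ⟨z, hz⟩ := Submodule.Quotient.mk_surjective _ (e x)
        refine ⟨algebraMap R R' b * z, Ideal.mul_mem_right _ _ (map_nonunit (algebraMap R R') b fun hu => hb (hu.map _)), ?_⟩
        rw [show Ideal.Quotient.mk J b • x = b • x from algebraMap_smul (R ⧸ J) b x, map_smul, ← hz,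
          ← Submodule.Quotient.mk_smul]
        exact congrArg _ (Algebra.smul_def _ _)
      · obtain ⟨p, hp, hp'⟩ := hx
        obtain ⟨q, hq, hq'⟩ := hy
        exact ⟨p + q, add_mem hp hq, by rw [map_add, hp', hq', Submodule.Quotient.mk_add]⟩
    obtain ⟨z, hz, hz'⟩ := h2 _ h1'
    rw [hsum, Submodule.Quotient.eq, Ideal.smul_top_eq_map, Submodule.restrictScalars_mem] at hz'
    have h3 : ∑ i : t, algebraMap R R' (a i) * s i ∈ maximalIdeal R' := by
      have := (Ideal.map_mono (Ideal.pow_le_self hN.ne')).trans (((local_hom_TFAE (algebraMap R R')).out 0 2).mp ‹_›) hz'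
      simpa using add_mem this hz
    let c' : ι → R := fun i => if hi : i ∈ t then a ⟨i, hi⟩ else 0
    have h4 := hli c' (by
      rw [← Finset.sum_coe_sort]
      simpa [c'] using h3) j j.2
    have h5 : a j ∈ maximalIdeal R := by simpa [c'] using h4
    rw [← ha j, residue_eq_zero_iff]
    exact fun hu => h5 ((isUnit_map_iff (Ideal.Quotient.mk J) _).1 hu)
  intro j hj
  have h0 : ∑ i : t, Ideal.Quotient.mk J (r i) • v i = 0 := by
    refine e.injective ?_
    rw [hsum, map_zero, Submodule.Quotient.mk_eq_zero, Ideal.smul_top_eq_map, Submodule.restrictScalars_mem,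
      Finset.sum_coe_sort t fun i => algebraMap R R' (r i) * s i]
    exact h
  exact Ideal.Quotient.eq_zero_iff_mem.1 (Fintype.linearIndependent_iff.1 hv _ h0 ⟨j, hj⟩)

end Groth.Agent.H7PSBC
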