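import Groth.Agent.H7PSBC.Core
import Groth.Agent.H05EGA4.Completion

/-!
# Base change of completion presentations
-/

set_option autoImplicit false
set_option linter.style.haveILetI false
set_option linter.unusedSectionVars false
set_option maxHeartbeats 1000000

universe u

open IsLocalRing TensorProduct MvPowerSeries

namespace Groth.Agent.H7PSBC

local notation "Cpl" R:max => AdicCompletion (maximalIdeal R) R

variable {k K R R' : Type u} [Field k] [Field K] [CommRing R] [IsLocalRing R] [IsNoetherianRing R] [CommRing R']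
  [IsLocalRing R'] [IsNoetherianRing R'] [Algebra R R'] [IsLocalHom (algebraMap R R')] [Module.Flat R R']
  [Algebra k K] [Algebra k (ResidueField R)]

/-- A presentation of the completion base changes along an unramified flat local homomorphism. -/
theorem exists_presentation_baseChange (hm : (maximalIdeal R).map (algebraMap R R') = maximalIdeal R')
    (iR : k →+* R) (iR' : K →+* R') (hcomm : ∀ c, algebraMap R R' (iR c) = iR' (algebraMap k K c))
    (hres : ∀ c, algebraMap k (ResidueField R) c = residue R (iR c))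
    (φ : (ResidueField R) ⊗[k] K →+* ResidueField R')
    (hφl : ∀ a, φ (a ⊗ₜ 1) = ResidueField.map (algebraMap R R') a) (hφr : ∀ c, φ (1 ⊗ₜ c) = residue R' (iR' c))
    (hfrac : ∀ z : ResidueField R', ∃ a b, φ b ≠ 0 ∧ z * φ b = φ a)
    (hloc : ∀ a, φ a = 0 → ∃ s, φ s ≠ 0 ∧ s * a = 0)
    (n m : ℕ) (g : Fin m → MvPowerSeries (Fin n) (ResidueField R))
    (e : (MvPowerSeries (Fin n) (ResidueField R) ⧸ Ideal.span (Set.range g)) ≃+* Cpl R)
    (hek : ∀ c, e (Ideal.Quotient.mk _ (C (residue R (iR c)))) = algebraMap R (Cpl R) (iR c))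
    (he : ∀ a, e (Ideal.Quotient.mk _ (C (residue R a))) - algebraMap R (Cpl R) a ∈
      (maximalIdeal R).map (algebraMap R (Cpl R))) :
    ∃ e' : (MvPowerSeries (Fin n) (ResidueField R') ⧸ Ideal.span (Set.range fun j =>
        MvPowerSeries.map (σ := Fin n) (ResidueField.map (algebraMap R R')) (g j))) ≃+* Cpl R',
      (∀ c, e' (Ideal.Quotient.mk _ (C (residue R' (iR' c)))) = algebraMap R' (Cpl R') (iR' c)) ∧
      ∀ b, e' (Ideal.Quotient.mk _ (C (residue R' b))) - algebraMap R' (Cpl R') b ∈
        (maximalIdeal R').map (algebraMap R' (Cpl R')) := by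
  classical
  let fb : ResidueField R →+* ResidueField R' := ResidueField.map (algebraMap R R')
  let G := Ideal.span (Set.range g)
  let G' := Ideal.span (Set.range fun j => MvPowerSeries.map (σ := Fin n) fb (g j))
  haveI hL : IsAdicComplete (maximalIdeal (Cpl R')) (Cpl R') := by
    rw [H8Props.Approx.maximalIdeal_completion]
    exact AdicCompletion.isAdicComplete_self _ (IsNoetherian.noetherian _)
  haveI : IsNoetherianRing (Cpl R') := H05EGA4.isNoetherianRing_adicCompletion R' _
  let ψ₀ : MvPowerSeries (Fin n) (ResidueField R) →+* Cpl R := e.toRingHom.comp (Ideal.Quotient.mk G)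
  have hψ₀ : Function.Surjective ψ₀ := e.surjective.comp Ideal.Quotient.mk_surjective
  have hker₀ : RingHom.ker ψ₀ = G := by
    ext x
    simp [ψ₀, RingHom.mem_ker, Ideal.Quotient.eq_zero_iff_mem]
  haveI : IsLocalHom ψ₀ := IsLocalHom.of_surjective _ hψ₀
  have hmax₀ : (H02CA.PS.vars (Fin n) (ResidueField R)).map ψ₀ = maximalIdeal (Cpl R) := by
    rw [vars_eq_maximalIdeal, IsLocalRing.map_maximalIdeal_of_surjective _ hψ₀]
  let ι : ResidueField R →+* Cpl R := ψ₀.comp C
  have hι : ∀ a, red (ι a) = a := fun a => by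
    obtain ⟨a, rfl⟩ := residue_surjective a
    have := (red_eq_zero_iff (R := R) _).2 (H8Props.Approx.maximalIdeal_completion (O := R) ▸ he a)
    rw [map_sub, sub_eq_zero, red_algebraMap] at this
    exact this
  letI : Algebra k (Cpl R') := ((algebraMap R' (Cpl R')).comp (iR'.comp (algebraMap k K))).toAlgebra
  let τl : ResidueField R →ₐ[k] Cpl R' :=
    { (cmap (R' := R')).comp ι with
      commutes' := fun c => by
        show cmap (ι (algebraMap k (ResidueField R) c)) = algebraMap R' (Cpl R') (iR' (algebraMap k K c))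
        rw [hres, show ι (residue R (iR c)) = algebraMap R (Cpl R) (iR c) from hek c, cmap_algebraMap, hcomm] }
  let τr : K →ₐ[k] Cpl R' := { (algebraMap R' (Cpl R')).comp iR' with commutes' := fun _ => rfl }
  let τ : (ResidueField R) ⊗[k] K →+* Cpl R' :=
    (Algebra.TensorProduct.lift τl τr fun _ _ => Commute.all _ _).toRingHom
  have hτ : ∀ a c, τ (a ⊗ₜ c) = cmap (ι a) * algebraMap R' (Cpl R') (iR' c) :=
    fun a c => Algebra.TensorProduct.lift_tmul τl τr (fun _ _ => Commute.all _ _) a c
  have hredτ : ∀ x, red (τ x) = φ x := fun x => by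
    induction x with
    | zero => simp
    | tmul a c =>
      rw [hτ, map_mul, red_cmap, hι, red_algebraMap, ← hφl, ← hφr, ← map_mul,
        Algebra.TensorProduct.tmul_mul_tmul, mul_one, one_mul]
    | add x y hx hy => simp [hx, hy]
  have hunit : ∀ x, φ x ≠ 0 → IsUnit (τ x) := fun x hx => by
    by_contra hu
    exact hx (hredτ x ▸ (red_eq_zero_iff _).2 hu)
  have hkill : ∀ x ∈ RingHom.ker φ, τ x = 0 := fun x hx => by
    obtain ⟨s, hs, hsx⟩ := hloc x hx
    have := congrArg τ hsx
    rw [map_mul, map_zero] at this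
    exact (hunit s hs).mul_right_eq_zero.1 this
  let B := (ResidueField R) ⊗[k] K ⧸ RingHom.ker φ
  letI : Algebra B (ResidueField R') := φ.kerLift.toAlgebra
  haveI : FaithfulSMul B (ResidueField R') := (faithfulSMul_iff_algebraMap_injective _ _).2 φ.kerLift_injective
  haveI : IsFractionRing B (ResidueField R') := IsFractionRing.of_field B _ fun z => by
    obtain ⟨a, b, hb, hz⟩ := hfrac z
    exact ⟨Ideal.Quotient.mk _ a, Ideal.Quotient.mk _ b, eq_div_of_mul_eq hb hz⟩
  have hB : ∀ y : nonZeroDivisors B, IsUnit (Ideal.Quotient.lift _ τ hkill (y : B)) := fun ⟨y, hy⟩ => by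
    obtain ⟨y, rfl⟩ := Ideal.Quotient.mk_surjective y
    haveI : Nontrivial B := φ.kerLift.domain_nontrivial
    exact hunit y fun h0 => nonZeroDivisors.ne_zero hy (Ideal.Quotient.eq_zero_iff_mem.2 h0)
  let σ : ResidueField R' →+* Cpl R' := IsLocalization.lift (M := nonZeroDivisors B) hB
  have hσφ : ∀ x, σ (φ x) = τ x := fun x =>
    IsLocalization.lift_eq (M := nonZeroDivisors B) hB (Ideal.Quotient.mk _ x)
  have hσl : ∀ a, σ (fb a) = cmap (ι a) := fun a => by
    rw [← hφl, hσφ, hτ, map_one, map_one, mul_one]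
  have hσr : ∀ c, σ (residue R' (iR' c)) = algebraMap R' (Cpl R') (iR' c) := fun c => by
    rw [← hφr, hσφ, hτ, map_one, map_one, one_mul]
  have hσ : ∀ z, red (σ z) = z := fun z => by
    obtain ⟨a, b, hb, hz⟩ := hfrac z
    refine mul_right_cancel₀ hb ?_
    have := congrArg (fun w => red (σ w)) hz
    simp only [map_mul, hσφ, hredτ] at this
    exact this.trans hz.symm
  letI : Algebra (ResidueField R') (Cpl R') := σ.toAlgebra
  let b : Fin n → Cpl R' := fun i => cmap (ψ₀ (X i))
  have hb : ∀ i, b i ∈ maximalIdeal (Cpl R') := fun i => by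
    have : ψ₀ (X i) ∈ maximalIdeal (Cpl R) := hmax₀ ▸ Ideal.mem_map_of_mem _ (Ideal.subset_span ⟨i, rfl⟩)
    simpa using cmap_mem_pow (R' := R') 1 (x := ψ₀ (X i)) (by simpa using this)
  obtain ⟨ψ, hψX⟩ := H02CA.PS.exists_algHom (R := ResidueField R') (maximalIdeal (Cpl R')) b hb
  have hψC : ∀ a, ψ (C a) = σ a := fun a => ψ.commutes a
  have hmap : ∀ Q, ψ (MvPowerSeries.map fb Q) = cmap (ψ₀ Q) := by
    letI : Algebra (ResidueField R) (Cpl R') := ((cmap (R' := R')).comp ι).toAlgebra
    let f₁ : MvPowerSeries (Fin n) (ResidueField R) →ₐ[ResidueField R] Cpl R' :=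
      { ψ.toRingHom.comp (MvPowerSeries.map fb) with
        commutes' := fun a => by
          show ψ (MvPowerSeries.map fb (C a)) = cmap (ι a)
          rw [MvPowerSeries.map_C, hψC, hσl] }
    let f₂ : MvPowerSeries (Fin n) (ResidueField R) →ₐ[ResidueField R] Cpl R' :=
      { (cmap (R' := R')).comp ψ₀ with commutes' := fun a => rfl }
    have hX : ∀ i, f₁ (X i) = b i := fun i => by
      show ψ (MvPowerSeries.map fb (X i)) = _
      rw [MvPowerSeries.map_X, hψX]
    have h12 : f₁ = f₂ := H02CA.PS.algHom_ext (maximalIdeal (Cpl R')) (fun i => hX i ▸ hb i) hX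
    exact fun Q => AlgHom.congr_fun h12 Q
  have hvars : (H02CA.PS.vars (Fin n) (ResidueField R')).map ψ.toRingHom = maximalIdeal (Cpl R') := by
    rw [← map_maximalIdeal_cmap hm, ← hmax₀, Ideal.map_map, Ideal.map_span, Ideal.map_span, ← Set.range_comp,
      ← Set.range_comp]
    congr 2
    exact funext hψX
  have hψsurj : Function.Surjective ψ := by
    refine H02CA.PS.surjective_of_approx ψ.toRingHom (H02CA.PS.vars (Fin n) (ResidueField R'))
      (maximalIdeal (Cpl R')) (fun x hx => hvars ▸ Ideal.mem_map_of_mem _ hx) (fun s => ⟨C (red s), ?_⟩) fun s hs => ?_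
    · show ψ (C (red s)) - s ∈ _
      rw [hψC, ← red_eq_zero_iff, map_sub, hσ, sub_self]
    · rw [← hvars, Ideal.map_span, ← Set.range_comp, Ideal.mem_span_range_iff_exists_fun] at hs
      obtain ⟨r, rfl⟩ := hs
      refine ⟨∑ i, C (red (r i)) * X i, Ideal.sum_mem _ fun i _ => Ideal.mul_mem_left _ _ (Ideal.subset_span ⟨i, rfl⟩), ?_⟩
      show ψ _ - _ ∈ _
      rw [map_sum, ← Finset.sum_sub_distrib, pow_two]
      refine Ideal.sum_mem _ fun i _ => ?_
      show ψ (C (red (r i)) * X i) - r i * ψ (X i) ∈ _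
      rw [map_mul, hψC, hψX, ← sub_mul]
      exact Ideal.mul_mem_mul (by rw [← red_eq_zero_iff, map_sub, hσ, sub_self]) (hb i)
  have hG' : G' ≤ RingHom.ker ψ.toRingHom := Ideal.span_le.2 (by
    rintro _ ⟨j, rfl⟩
    show ψ (MvPowerSeries.map fb (g j)) = 0
    rw [hmap, show ψ₀ (g j) = 0 from hker₀.ge (Ideal.subset_span ⟨j, rfl⟩), map_zero])
  have hfb : algebraMap (ResidueField R) (ResidueField R') = fb := rfl
  let bs := Module.Basis.ofVectorSpace (ResidueField R) (ResidueField R')
  have hinj : ∀ F, ψ F = 0 → ∀ N, F ∈ G' ⊔ H02CA.PS.vars (Fin n) (ResidueField R') ^ N := by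
    intro F hF N
    rcases Nat.eq_zero_or_pos N with rfl | hN
    · simp
    set p := truncTotal N F
    have hp : F - (p : MvPowerSeries (Fin n) (ResidueField R')) ∈ H02CA.PS.vars (Fin n) (ResidueField R') ^ N :=
      H02CA.PS.sub_truncTotal_mem N F
    let t := p.support.biUnion fun d => (bs.repr (p.coeff d)).support
    let Q : _ → MvPolynomial (Fin n) (ResidueField R) := fun j =>
      ∑ d ∈ p.support, MvPolynomial.monomial d (bs.repr (p.coeff d) j)
    have hpQ : p = ∑ j ∈ t, MvPolynomial.C (bs j) * MvPolynomial.map fb (Q j) := by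
      ext d
      simp only [MvPolynomial.coeff_sum, MvPolynomial.coeff_C_mul, MvPolynomial.coeff_map, Q,
        MvPolynomial.coeff_monomial, Finset.sum_ite_eq']
      by_cases hd : d ∈ p.support
      · simp only [hd, ↓reduceIte]
        conv_lhs => rw [← bs.linearCombination_repr (p.coeff d), Finsupp.linearCombination_apply]
        rw [Finsupp.sum_of_support_subset _ (s := t) (fun j hj => Finset.mem_biUnion.2 ⟨d, hd, hj⟩) _ (by simp)]
        refine Finset.sum_congr rfl fun j _ => ?_
        rw [Algebra.smul_def, mul_comm, hfb]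
      · simp only [hd, ↓reduceIte, map_zero, mul_zero, Finset.sum_const_zero]
        exact MvPolynomial.notMem_support_iff.1 hd
    choose r hr using fun j => H8Props.Approx.exists_evalₐ_eq N (ψ₀ (Q j : MvPowerSeries (Fin n) (ResidueField R)))
    choose s hs using fun j => H8Props.Approx.exists_evalₐ_eq N (σ (bs j))
    have hress : ∀ j, residue R' (s j) = bs j := fun j => by
      have := (red_eq_zero_iff _).2 (Ideal.pow_le_self hN.ne' (hs j))
      rw [map_sub, sub_eq_zero, hσ, red_algebraMap] at this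
      exact this.symm
    have hψp : ψ (p : MvPowerSeries (Fin n) (ResidueField R')) =
        ∑ j ∈ t, σ (bs j) * cmap (ψ₀ (Q j : MvPowerSeries (Fin n) (ResidueField R))) := by
      conv_lhs => rw [hpQ]
      rw [← MvPolynomial.coeToMvPowerSeries.ringHom_apply, map_sum, map_sum]
      refine Finset.sum_congr rfl fun j _ => ?_
      rw [map_mul, MvPolynomial.coeToMvPowerSeries.ringHom_apply, MvPolynomial.coeToMvPowerSeries.ringHom_apply,
        MvPolynomial.coe_C, map_mul, hψC, ← hmap]
      congr 2
    have h1 : ψ (p : MvPowerSeries (Fin n) (ResidueField R')) ∈ maximalIdeal (Cpl R') ^ N := by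
      have h2 := Ideal.mem_map_of_mem ψ.toRingHom hp
      rw [Ideal.map_pow, hvars] at h2
      have h3 : ψ (F - (p : MvPowerSeries (Fin n) (ResidueField R'))) ∈ maximalIdeal (Cpl R') ^ N := h2
      rw [map_sub, hF, zero_sub] at h3
      exact neg_mem_iff.1 h3
    have h4 : algebraMap R' (Cpl R') (∑ j ∈ t, algebraMap R R' (r j) * s j) ∈ maximalIdeal (Cpl R') ^ N := by
      have h5 : ψ (p : MvPowerSeries (Fin n) (ResidueField R')) -
          algebraMap R' (Cpl R') (∑ j ∈ t, algebraMap R R' (r j) * s j) ∈ maximalIdeal (Cpl R') ^ N := by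
        rw [hψp, map_sum, ← Finset.sum_sub_distrib]
        refine Ideal.sum_mem _ fun j _ => ?_
        rw [map_mul, ← cmap_algebraMap, show ∀ a b c d : Cpl R', a * b - d * c = (a - c) * b + c * (b - d) from
          fun a b c d => by ring, ← map_sub (cmap (R' := R'))]
        exact add_mem (Ideal.mul_mem_right _ _ (hs j)) (Ideal.mul_mem_left _ _ (cmap_mem_pow N (hr j)))
      have := sub_mem h1 h5
      rwa [sub_sub_cancel] at this
    rw [← H8Props.Approx.evalₐ_eq_zero_iff, H05EGA4.AdicLim.evalₐ_algebraMap, Ideal.Quotient.eq_zero_iff_mem,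
      ← hm, ← Ideal.map_pow] at h4
    have h6 := mem_pow_of_sum_mem t N hN s r (fun c hc j hj => by
      have h7 : ∑ i ∈ t, residue R (c i) • bs i = 0 := by
        rw [← residue_eq_zero_iff, map_sum] at hc
        rw [← hc]
        refine Finset.sum_congr rfl fun i _ => ?_
        rw [map_mul, hress, Algebra.smul_def, hfb, ResidueField.map_residue]
      exact (residue_eq_zero_iff (c j)).1
        (linearIndependent_iff'.1 bs.linearIndependent t (fun i => residue R (c i)) h7 j hj)) h4
    have h8 : ∀ j ∈ t, (Q j : MvPowerSeries (Fin n) (ResidueField R)) ∈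
        G ⊔ H02CA.PS.vars (Fin n) (ResidueField R) ^ N := fun j hj => by
      have h9 : algebraMap R (Cpl R) (r j) ∈ maximalIdeal (Cpl R) ^ N := by
        rw [H8Props.Approx.maximalIdeal_completion, ← Ideal.map_pow]
        exact Ideal.mem_map_of_mem _ (h6 j hj)
      have h10 := add_mem (hr j) h9
      rw [sub_add_cancel, ← hmax₀, ← Ideal.map_pow] at h10
      have h11 := Ideal.mem_comap.2 h10
      rwa [Ideal.comap_map_of_surjective' _ hψ₀, hker₀, sup_comm] at h11
    have hle : (G ⊔ H02CA.PS.vars (Fin n) (ResidueField R) ^ N).map (MvPowerSeries.map fb) ≤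
        G' ⊔ H02CA.PS.vars (Fin n) (ResidueField R') ^ N := by
      rw [Ideal.map_sup, Ideal.map_pow]
      refine sup_le_sup ?_ (Ideal.pow_right_mono ?_ N)
      · rw [Ideal.map_span, ← Set.range_comp]
        rfl
      · rw [Ideal.map_span, ← Set.range_comp]
        refine Ideal.span_mono ?_
        rintro _ ⟨i, rfl⟩
        exact ⟨i, (MvPowerSeries.map_X _ i).symm⟩
    have h12 : (p : MvPowerSeries (Fin n) (ResidueField R')) ∈ G' ⊔ H02CA.PS.vars (Fin n) (ResidueField R') ^ N := by
      rw [hpQ, ← MvPolynomial.coeToMvPowerSeries.ringHom_apply, map_sum]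
      refine Ideal.sum_mem _ fun j hj => ?_
      rw [map_mul, MvPolynomial.coeToMvPowerSeries.ringHom_apply, MvPolynomial.coeToMvPowerSeries.ringHom_apply]
      refine Ideal.mul_mem_left _ _ (hle ?_)
      convert Ideal.mem_map_of_mem (MvPowerSeries.map fb) (h8 j hj) using 1
      ext d
      simp only [MvPolynomial.coeff_coe, MvPowerSeries.coeff_map]
      exact MvPolynomial.coeff_map fb (Q j) d
    simpa using add_mem (Submodule.mem_sup_right hp) h12
  have hker : RingHom.ker ψ.toRingHom = G' := by
    refine le_antisymm (fun F hF => ?_) hG'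
    haveI : Nontrivial (MvPowerSeries (Fin n) (ResidueField R') ⧸ G') :=
      Ideal.Quotient.nontrivial_iff.2 (ne_top_of_le_ne_top (RingHom.ker_ne_top _) hG')
    haveI : IsLocalRing (MvPowerSeries (Fin n) (ResidueField R') ⧸ G') :=
      IsLocalRing.of_surjective' _ Ideal.Quotient.mk_surjective
    haveI : IsLocalHom (Ideal.Quotient.mk G') := IsLocalHom.of_surjective _ Ideal.Quotient.mk_surjective
    refine Ideal.Quotient.eq_zero_iff_mem.1 ?_
    rw [← Submodule.mem_bot (R := MvPowerSeries (Fin n) (ResidueField R') ⧸ G'),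
      ← Ideal.iInf_pow_eq_bot_of_isLocalRing (maximalIdeal (MvPowerSeries (Fin n) (ResidueField R') ⧸ G'))
        (maximalIdeal.isMaximal _).ne_top, Submodule.mem_iInf]
    intro N
    rw [← IsLocalRing.map_maximalIdeal_of_surjective _ (Ideal.Quotient.mk_surjective (I := G')), ← Ideal.map_pow,
      ← vars_eq_maximalIdeal]
    have := Ideal.mem_map_of_mem (Ideal.Quotient.mk G') (hinj F hF N)
    rwa [Ideal.map_sup, Ideal.map_quotient_self, bot_sup_eq] at this
  let e' : (MvPowerSeries (Fin n) (ResidueField R') ⧸ G') ≃+* Cpl R' :=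
    (Ideal.quotEquivOfEq hker.symm).trans (RingHom.quotientKerEquivOfSurjective (f := ψ.toRingHom) hψsurj)
  have he' : ∀ a, e' (Ideal.Quotient.mk _ (C a)) = σ a := fun a => by
    show RingHom.kerLift ψ.toRingHom (Ideal.Quotient.mk _ (C a)) = _
    exact hψC a
  refine ⟨e', fun c => (he' _).trans (hσr c), fun a => ?_⟩
  rw [← H8Props.Approx.maximalIdeal_completion, ← red_eq_zero_iff]
  show red (e' _ - _) = 0
  rw [map_sub, he', hσ, red_algebraMap, sub_self]

end Groth.Agent.H7PSBC
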