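import Groth.Prelude
import Groth.Agent.H22Alg.VarDim
import Groth.Agent.H8Props.FibreStalk

/-!
# Residue fields of base changes at generic points of fibres
-/

set_option autoImplicit false
set_option linter.style.haveILetI false
set_option backward.isDefEq.respectTransparency false

universe u

open CategoryTheory CategoryTheory.Limits AlgebraicGeometry
open scoped TensorProduct

namespace Groth.Agent.H7PSBC

attribute [local instance] Curv2.resAlgebra

variable (k : Type u) [Field k] (X : Scheme.{u}) [X.Over (Spec (CommRingCat.of k))]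
  (K : Type u) [Field K] [Algebra k K] (y : ↥(Curv2.bc k X K))

theorem fromSpecStalk_over (k : Type u) [Field k] (X : Scheme.{u}) [X.Over (Spec (CommRingCat.of k))] (x : X) :
    X.fromSpecStalk x ≫ (X ↘ Spec (CommRingCat.of k)) = Spec.map (CommRingCat.ofHom (Curv2.stalkMap k X x)) := by
  have h1 : (X ↘ Spec (CommRingCat.of k)) =
      X.toSpecΓ ≫ Spec.map ((Scheme.ΓSpecIso (CommRingCat.of k)).inv ≫ (X ↘ Spec (CommRingCat.of k)).appTop) := by
    rw [Spec.map_comp, ← Scheme.toSpecΓ_naturality_assoc, toSpecΓ_SpecMap_ΓSpecIso_inv, Category.comp_id]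
  rw [h1]
  simp only [Scheme.fromSpecStalk_toSpecΓ_assoc, ← Spec.map_comp]
  rfl

theorem stalkMap_comm (c : k) :
    letI : (Curv2.bc k X K).Over (Spec (CommRingCat.of K)) := ⟨Curv2.bcSnd k X K⟩
    (Curv2.bcFst k X K).stalkMap y (Curv2.stalkMap k X (Curv2.bcFst k X K y) c) =
      Curv2.stalkMap K (Curv2.bc k X K) y (algebraMap k K c) := by
  letI : (Curv2.bc k X K).Over (Spec (CommRingCat.of K)) := ⟨Curv2.bcSnd k X K⟩
  have h : CommRingCat.ofHom (Curv2.stalkMap k X (Curv2.bcFst k X K y)) ≫ (Curv2.bcFst k X K).stalkMap y =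
      CommRingCat.ofHom (algebraMap k K) ≫ CommRingCat.ofHom (Curv2.stalkMap K (Curv2.bc k X K) y) := by
    apply Spec.map_injective
    rw [Spec.map_comp, Spec.map_comp, ← fromSpecStalk_over, Scheme.SpecMap_stalkMap_fromSpecStalk_assoc,
      ← fromSpecStalk_over, Category.assoc]
    exact congrArg (fun t => (Curv2.bc k X K).fromSpecStalk y ≫ t) pullback.condition
  exact DFunLike.congr_fun (congrArg CommRingCat.Hom.hom h) c

theorem isReduced_tensor (x : X) (hsep : GeometricallyReduced (Spec.map (CommRingCat.ofHom (Curv2.resMap k X x)))) :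
    _root_.IsReduced ((X.residueField x : Type u) ⊗[k] K) := by
  haveI : IsReduced (pullback (Spec.map (CommRingCat.ofHom (algebraMap k (X.residueField x))))
      (Spec.map (CommRingCat.ofHom (algebraMap k K)))) :=
    hsep.geometrically_isReduced _ _ _ (.of_hasPullback _ _)
  haveI : IsReduced (Spec (CommRingCat.of ((X.residueField x : Type u) ⊗[k] K))) :=
    isReduced_of_isOpenImmersion (pullbackSpecIso k (X.residueField x) K).inv
  exact (affine_isReduced_iff (CommRingCat.of ((X.residueField x : Type u) ⊗[k] K))).1 inferInstance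

/-- The residue field of a point of a base change. -/
noncomputable def resPair : (X.residueField (Curv2.bcFst k X K y) : Type u) ⊗[k] K →+* (Curv2.bc k X K).residueField y :=
  letI : (Curv2.bc k X K).Over (Spec (CommRingCat.of K)) := ⟨Curv2.bcSnd k X K⟩
  letI : Algebra k ((Curv2.bc k X K).residueField y) :=
    ((Curv2.resMap K (Curv2.bc k X K) y).comp (algebraMap k K)).toAlgebra
  (Algebra.TensorProduct.lift (R := k) (S := k)
    ({ ((Curv2.bcFst k X K).residueFieldMap y).hom with
      commutes' := fun c => by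
        have h : Spec.map ((CommRingCat.ofHom (Curv2.resMap k X (Curv2.bcFst k X K y))) ≫
            (Curv2.bcFst k X K).residueFieldMap y) =
            Spec.map (CommRingCat.ofHom ((Curv2.resMap K (Curv2.bc k X K) y).comp (algebraMap k K))) := by
          rw [Spec.map_comp, CommRingCat.ofHom_comp, Spec.map_comp,
            ← H22Alg.VarDim.fromSpecResidueField_over, Scheme.Hom.SpecMap_residueFieldMap_fromSpecResidueField_assoc,
            ← H22Alg.VarDim.fromSpecResidueField_over, Category.assoc]
          exact congrArg (fun t => (Curv2.bc k X K).fromSpecResidueField y ≫ t) pullback.condition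
        exact DFunLike.congr_fun (congrArg CommRingCat.Hom.hom (Spec.map_injective h)) c } :
      (X.residueField (Curv2.bcFst k X K y) : Type u) →ₐ[k] (Curv2.bc k X K).residueField y)
    ({ Curv2.resMap K (Curv2.bc k X K) y with commutes' := fun _ => rfl } : K →ₐ[k] (Curv2.bc k X K).residueField y)
    fun _ _ => Commute.all _ _).toRingHom

theorem resPair_left (a : X.residueField (Curv2.bcFst k X K y)) :
    resPair k X K y (a ⊗ₜ 1) = (Curv2.bcFst k X K).residueFieldMap y a := by
  letI : (Curv2.bc k X K).Over (Spec (CommRingCat.of K)) := ⟨Curv2.bcSnd k X K⟩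
  letI : Algebra k ((Curv2.bc k X K).residueField y) :=
    ((Curv2.resMap K (Curv2.bc k X K) y).comp (algebraMap k K)).toAlgebra
  refine (Algebra.TensorProduct.lift_tmul _ _ _ a 1).trans ?_
  rw [map_one, mul_one]
  rfl

theorem resPair_right (c : K) :
    letI : (Curv2.bc k X K).Over (Spec (CommRingCat.of K)) := ⟨Curv2.bcSnd k X K⟩
    resPair k X K y (1 ⊗ₜ c) = Curv2.resMap K (Curv2.bc k X K) y c := by
  letI : (Curv2.bc k X K).Over (Spec (CommRingCat.of K)) := ⟨Curv2.bcSnd k X K⟩
  letI : Algebra k ((Curv2.bc k X K).residueField y) :=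
    ((Curv2.resMap K (Curv2.bc k X K) y).comp (algebraMap k K)).toAlgebra
  refine (Algebra.TensorProduct.lift_tmul _ _ _ 1 c).trans ?_
  rw [map_one, one_mul]
  rfl

theorem resPair_comp_left :
    CommRingCat.ofHom Algebra.TensorProduct.includeLeftRingHom ≫ CommRingCat.ofHom (resPair k X K y) =
      (Curv2.bcFst k X K).residueFieldMap y :=
  CommRingCat.hom_ext (RingHom.ext fun a => resPair_left k X K y a)

theorem resPair_comp_right :
    letI : (Curv2.bc k X K).Over (Spec (CommRingCat.of K)) := ⟨Curv2.bcSnd k X K⟩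
    CommRingCat.ofHom Algebra.TensorProduct.includeRight.toRingHom ≫ CommRingCat.ofHom (resPair k X K y) =
      CommRingCat.ofHom (Curv2.resMap K (Curv2.bc k X K) y) :=
  CommRingCat.hom_ext (RingHom.ext fun c => resPair_right k X K y c)

theorem exists_frac (z : (Curv2.bc k X K).residueField y) :
    ∃ a b, resPair k X K y b ≠ 0 ∧ z * resPair k X K y b = resPair k X K y a := by
  letI : (Curv2.bc k X K).Over (Spec (CommRingCat.of K)) := ⟨Curv2.bcSnd k X K⟩
  let F : Subfield ((Curv2.bc k X K).residueField y) := Subfield.closure (Set.range (resPair k X K y))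
  let r : CommRingCat.of ((X.residueField (Curv2.bcFst k X K y) : Type u) ⊗[k] K) ⟶ CommRingCat.of F :=
    CommRingCat.ofHom ((resPair k X K y).codRestrict F fun a => Subfield.subset_closure ⟨a, rfl⟩)
  let sub : CommRingCat.of F ⟶ (Curv2.bc k X K).residueField y := CommRingCat.ofHom F.subtype
  let m : Spec (CommRingCat.of F) ⟶ Curv2.bc k X K := pullback.lift
    (Spec.map (CommRingCat.ofHom Algebra.TensorProduct.includeLeftRingHom ≫ r) ≫
      X.fromSpecResidueField (Curv2.bcFst k X K y))
    (Spec.map (CommRingCat.ofHom Algebra.TensorProduct.includeRight.toRingHom ≫ r)) (by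
      rw [Category.assoc, H22Alg.VarDim.fromSpecResidueField_over, ← Spec.map_comp, ← Spec.map_comp]
      congr 1
      refine CommRingCat.hom_ext (RingHom.ext fun c => ?_)
      show r.hom (algebraMap k (X.residueField (Curv2.bcFst k X K y)) c ⊗ₜ[k] (1 : K)) =
        r.hom (1 ⊗ₜ[k] algebraMap k K c)
      rw [Algebra.algebraMap_eq_smul_one, Algebra.algebraMap_eq_smul_one, TensorProduct.smul_tmul])
  have hm : Spec.map sub ≫ m = (Curv2.bc k X K).fromSpecResidueField y := by
    apply pullback.hom_ext
    · show (Spec.map sub ≫ m) ≫ pullback.fst _ _ = _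
      rw [Category.assoc, pullback.lift_fst, ← Spec.map_comp_assoc,
        show (CommRingCat.ofHom Algebra.TensorProduct.includeLeftRingHom ≫ r) ≫ sub =
          (Curv2.bcFst k X K).residueFieldMap y from resPair_comp_left k X K y,
        Scheme.Hom.SpecMap_residueFieldMap_fromSpecResidueField]
    · show (Spec.map sub ≫ m) ≫ pullback.snd _ _ = _
      rw [Category.assoc, pullback.lift_snd, ← Spec.map_comp,
        show (CommRingCat.ofHom Algebra.TensorProduct.includeRight.toRingHom ≫ r) ≫ sub =
          CommRingCat.ofHom (Curv2.resMap K (Curv2.bc k X K) y) from resPair_comp_right k X K y,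
        ← H22Alg.VarDim.fromSpecResidueField_over]
      rfl
  have hpt : m (IsLocalRing.closedPoint F) = y := by
    have h := congrArg (fun f => f (IsLocalRing.closedPoint ((Curv2.bc k X K).residueField y))) hm
    simp only [Scheme.Hom.comp_apply, Scheme.fromSpecResidueField_apply] at h
    exact (congrArg m (Subsingleton.elim _ _)).trans h
  have fact : ∀ y', m (IsLocalRing.closedPoint F) = y' →
      ∃ ψ : (Curv2.bc k X K).residueField y' ⟶ CommRingCat.of F,
        Spec.map ψ ≫ (Curv2.bc k X K).fromSpecResidueField y' = m := by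
    intro y' h
    subst h
    exact ⟨_, Scheme.descResidueField_stalkClosedPointTo_fromSpecResidueField F (Curv2.bc k X K) m⟩
  obtain ⟨ψ, hψ⟩ := fact y hpt
  have hid : ψ ≫ sub = 𝟙 _ := by
    apply Spec.map_injective
    rw [← cancel_mono ((Curv2.bc k X K).fromSpecResidueField y), Spec.map_comp, Category.assoc, hψ, hm, Spec.map_id,
      Category.id_comp]
  have hz : z ∈ F := by
    have h : F.subtype (ψ.hom z) = z := RingHom.congr_fun (congrArg CommRingCat.Hom.hom hid) z
    exact h ▸ (ψ.hom z).2
  rw [Subfield.mem_closure_iff, ← RingHom.coe_range, Subring.closure_eq] at hz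
  obtain ⟨_, ⟨a, rfl⟩, _, ⟨b, rfl⟩, rfl⟩ := hz
  by_cases hb : resPair k X K y b = 0
  · exact ⟨0, 1, by simp, by simp [hb]⟩
  · exact ⟨a, b, hb, div_mul_cancel₀ _ hb⟩

theorem exists_mul_eq_zero [LocallyOfFiniteType (X ↘ Spec (CommRingCat.of k))]
    (hmax : Ideal.map ((Curv2.bcFst k X K).stalkMap y).hom
        (IsLocalRing.maximalIdeal ↥(X.presheaf.stalk (Curv2.bcFst k X K y))) =
      IsLocalRing.maximalIdeal ↥((Curv2.bc k X K).presheaf.stalk y))
    (a : (X.residueField (Curv2.bcFst k X K y) : Type u) ⊗[k] K) (ha : resPair k X K y a = 0) :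
    ∃ s, resPair k X K y s ≠ 0 ∧ s * a = 0 := by
  letI : (Curv2.bc k X K).Over (Spec (CommRingCat.of K)) := ⟨Curv2.bcSnd k X K⟩
  let q := X ↘ (Spec (CommRingCat.of k))
  let σ := Spec.map (CommRingCat.ofHom (algebraMap k K))
  let p := Curv2.bcFst k X K
  let x := p y
  let i : p.fiber x ≅ Spec (CommRingCat.of ((X.residueField x : Type u) ⊗[k] K)) :=
    pullbackSymmetry _ _ ≪≫ pullbackRightPullbackFstIso q σ (X.fromSpecResidueField x) ≪≫
      pullback.congrHom (Groth.Agent.H22Alg.VarDim.fromSpecResidueField_over k X x) rfl ≪≫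
        pullbackSpecIso k (X.residueField x) K
  let g : Spec ((Curv2.bc k X K).residueField y) ⟶ p.fiber x :=
    Spec.map (CommRingCat.ofHom (resPair k X K y)) ≫ i.inv
  have hi1 : i.inv ≫ p.fiberι x ≫ pullback.fst q σ =
      Spec.map (CommRingCat.ofHom (Algebra.TensorProduct.includeLeftRingHom (R := k) (A := (X.residueField x : Type u))
        (B := K))) ≫ X.fromSpecResidueField x := by
    simp only [i, Iso.trans_inv, Category.assoc, Scheme.Hom.fiberι, p, q, σ, Curv2.bcFst, pullback.congrHom_inv]
    rw [pullbackSymmetry_inv_comp_fst_assoc, pullbackRightPullbackFstIso_inv_snd_fst, pullback.lift_fst_assoc,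
      Category.comp_id]
    exact pullbackSpecIso_inv_fst_assoc k (X.residueField x) K (X.fromSpecResidueField x)
  have hi2 : i.inv ≫ p.fiberι x ≫ pullback.snd q σ =
      Spec.map (CommRingCat.ofHom Algebra.TensorProduct.includeRight.toRingHom) := by
    simp only [i, Iso.trans_inv, Category.assoc, Scheme.Hom.fiberι, p, q, σ, Curv2.bcFst, pullback.congrHom_inv]
    rw [pullbackSymmetry_inv_comp_fst_assoc, pullbackRightPullbackFstIso_inv_snd_snd, pullback.lift_snd,
      Category.comp_id]
    exact pullbackSpecIso_inv_snd k (X.residueField x) K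
  have hg : g ≫ p.fiberι x = (Curv2.bc k X K).fromSpecResidueField y := by
    apply pullback.hom_ext
    · show (g ≫ p.fiberι x) ≫ pullback.fst q σ = (Curv2.bc k X K).fromSpecResidueField y ≫ Curv2.bcFst k X K
      rw [← Scheme.Hom.SpecMap_residueFieldMap_fromSpecResidueField, ← resPair_comp_left, Spec.map_comp,
        Category.assoc, Category.assoc, Category.assoc, hi1]
    · show (g ≫ p.fiberι x) ≫ pullback.snd q σ =
        (Curv2.bc k X K).fromSpecResidueField y ≫ ((Curv2.bc k X K) ↘ Spec (CommRingCat.of K))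
      rw [H22Alg.VarDim.fromSpecResidueField_over, Category.assoc, Category.assoc, hi2, ← Spec.map_comp,
        resPair_comp_right]
  let c := IsLocalRing.closedPoint ((Curv2.bc k X K).residueField y)
  have hgc : g c = p.asFiber y := (p.fiberι x).isEmbedding.injective (by
    rw [← Scheme.Hom.comp_apply, hg, Scheme.fromSpecResidueField_apply, Scheme.Hom.fiberι_asFiber])
  let z : Spec (CommRingCat.of ((X.residueField x : Type u) ⊗[k] K)) := Spec.map (CommRingCat.ofHom (resPair k X K y)) c
  have hz : z.asIdeal = RingHom.ker (resPair k X K y) := by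
    show Ideal.comap (resPair k X K y) (IsLocalRing.maximalIdeal ((Curv2.bc k X K).residueField y)) = _
    rw [IsLocalRing.maximalIdeal_eq_bot]
    rfl
  letI : Algebra (X.presheaf.stalk x) ((Curv2.bc k X K).presheaf.stalk y) := (p.stalkMap y).hom.toAlgebra
  have hfib : IsField ((p.fiber x).presheaf.stalk (p.asFiber y)) := by
    let e := H8Props.FibreStalk.asFiberStalkEquiv p y
    refine MulEquiv.isField ((Ideal.Quotient.maximal_ideal_iff_isField_quotient _).1 ?_) e.toMulEquiv.symm
    exact hmax ▸ IsLocalRing.maximalIdeal.isMaximal _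
  have hstalk : IsField ((Spec (CommRingCat.of ((X.residueField x : Type u) ⊗[k] K))).presheaf.stalk z) := by
    rw [← hgc] at hfib
    exact MulEquiv.isField hfib (asIso (i.inv.stalkMap z)).commRingCatIsoToRingEquiv.symm.toMulEquiv
  let S : Type u := (Spec.structureSheaf (CommRingCat.of ((X.residueField x : Type u) ⊗[k] K))).presheaf.stalk z
  have hS : IsField S := hstalk
  letI := hS.toField
  have h0 : algebraMap ((X.residueField x : Type u) ⊗[k] K) S a = 0 := by
    by_contra h
    exact (IsLocalization.AtPrime.isUnit_to_map_iff S z.asIdeal a).1 (isUnit_iff_ne_zero.2 h) (hz ▸ ha)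
  obtain ⟨⟨s, hs⟩, hsa⟩ := (IsLocalization.map_eq_zero_iff z.asIdeal.primeCompl S a).1 h0
  exact ⟨s, fun h => hs (hz ▸ h), hsa⟩

end Groth.Agent.H7PSBC
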